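import Cfsg.Agent.HSRecog.Model

/-!
Codes for the normal subgroup of order 64 of the centraliser inside the model, and the finite checks.
-/

set_option autoImplicit false
set_option Elab.async false
set_option maxRecDepth 100000
set_option maxHeartbeats 4000000

namespace Cfsg.Agent.HSRecog.HSide

variable {G : Type*} [Group G]

/-- The five generators of the normal subgroup. -/
def g5 (c d f r : G) (k : ℕ) : G :=
  [c, e1 c d * e1 c d, e2 c d * e2 c d, a1 d r, f * a1 d r * f⁻¹].getD k 1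

/-- The letters of a code. -/
def dig (n : ℕ) : List ℕ :=
  List.replicate (n / 16) 0 ++ List.replicate (n / 8 % 2) 1 ++ List.replicate (n / 4 % 2) 2 ++
    List.replicate (n / 2 % 2) 3 ++ List.replicate (n % 2) 4

/-- The element with a code. -/
def rNF (c d f r : G) (n : ℕ) : G := ((dig n).map (g5 c d f r)).prod

/-- The right multiplication tables of the generators, packed in base 64. -/
def gTab : List ℕ := [0x3ce34c2ca2481c61440c2040ffef7cefae78df6d74cf2c70beeb6caeaa689e69648e28607de75c6da6585d65544d2450,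
  0x5f65744f24707fe77c6fa6781e61640e20603ee36c2ea268dd6d54cd2c50fdef5cedae589c69448c2840bceb4cacaa48,
  0x6dae787def7c4d2c705d6d742caa683ceb6c0c28601c6964efa658ffe75ccf2450df6554aea248bee34c8e20409e6144,
  0xf7cffee78efad74df6c70cf2b6cbeea68aea9649e68608e275c7de6586da5545d64504d234c3ce2482ca1441c60400c2,
  0xfbff3debbe39db7d35cb3c31bafb2daaba299a79258a382179f71d69b61959751549341138f30d28b209187105083001]

/-- The code of the product with a generator. -/
def stepG (k m : ℕ) : ℕ := gTab.getD k 0 / 2 ^ (6 * m) % 64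

/-- The code of a product. -/
def mulT (m n : ℕ) : ℕ := (dig n).foldl (fun a k => stepG k a) m

/-- The code of the image under a map with the listed images of the generators. -/
def ap (P : List ℕ) (n : ℕ) : ℕ := (dig n).foldl (fun a k => mulT a (P.getD k 0)) 0

/-- Conjugation by `f`. -/
def fP : List ℕ := [16, 4, 12, 1, 3]

/-- Conjugation by `r`. -/
def rP : List ℕ := [48, 4, 8, 1, 2]

/-- Conjugation by `rw'`. -/
def sP : List ℕ := [48, 4, 8, 57, 22]

/-- The codes of the generators. -/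
def gn : List ℕ := [16, 8, 4, 2, 1]

/-- The images of a candidate. -/
def cP (E X Y : ℕ) : List ℕ := [E, X, ap fP X, Y, ap fP Y]

/-- The cube of a candidate followed by conjugation by `rw'`. -/
def cube (P : List ℕ) (g : ℕ) : ℕ := ap P (ap sP (ap P (ap sP (ap P (ap sP g)))))

/-- The conditions on a candidate. -/
def candB (E X Y : ℕ) : Bool :=
  mulT X X == 0 && ap rP (ap fP X) == X && mulT Y Y == 0 &&
    (gn.all fun g => ap (cP E X Y) (ap (cP E X Y) g) == g) &&
    (gn.all fun g => ap (cP E X Y) (ap rP g) == ap rP (ap (cP E X Y) g)) &&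
    (gn.all fun g => ap (cP E X Y) (ap fP g) == ap fP (ap (cP E X Y) g)) &&
    (List.range 64).any fun u => gn.all fun g => mulT u g == mulT (cube (cP E X Y) g) u

theorem cand_all : ([16, 48].all fun E => (List.range 64).all fun X => (List.range 64).all fun Y =>
    !candB E X Y || (E == 48 && (cP E X Y == [48, 2, 1, 8, 4] || cP E X Y == [48, 42, 37, 2, 1]))) = true := by
  decide +kernel

theorem cube_ok : (gn.all fun g => cube [48, 2, 1, 8, 4] g == g) = true := by decide +kernel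

theorem centre_ok : ((List.range 64).all fun u =>
    !(gn.all fun g => mulT u g == mulT g u) || u % 16 == 0) = true := by decide +kernel

theorem fix_ok : ((List.range 64).all fun u => !(ap fP u == u) || u % 16 == 0) = true := by decide +kernel

/-- The generators as packed tables on the 64 points. -/
def pTab : List ℕ := [0x3ce34c2ca2481c61440c2040ffef7cefae78df6d74cf2c70beeb6caeaa689e69648e28607de75c6da6585d65544d2450,
  0xdf6d74cf2c70ffef7cefae789e69648e2860beeb6caeaa685d65544d24507de75c6da6581c61440c20403ce34c2ca248,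
  0xf7cffee78efad74df6c70cf2b6cbeea68aea9649e68608e275c7de6586da5545d64504d234c3ce2482ca1441c60400c2,
  0x356bf405a8f815e9fc252af0f467e4c4a4e8d4e5ece426e0b763d487a0d897e1dca722d0766fc446acc856edcc662ec0,
  0x9e496665a6d83cc34ec72cf05d455624a2c8ffcf7e8628e01c4146e7aef8becb6e4524d0df4d76a6aae87dc75e0420c0]

/-- The image of a point under a generator. -/
def pv (k i : ℕ) : ℕ := pTab.getD k 0 / 2 ^ (6 * i) % 64

/-- The image of a point under a word. -/
def wv (l : List ℕ) (i : ℕ) : ℕ := l.foldr pv i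

theorem g5_pv : ∀ k < 5, ∀ i : Fin 64, ((g5 cM dM fM rM k) i : ℕ) = pv k i := by decide +kernel

theorem step_pv : ((List.range 5).all fun k => (List.range 64).all fun m => (List.range 64).all fun i =>
    Nat.beq (wv (dig m) (pv k i)) (wv (dig (stepG k m)) i)) = true := by decide +kernel

theorem prod_wv : ∀ (l : List ℕ), (∀ k ∈ l, k < 5) → ∀ i : Fin 64,
    (((l.map (g5 cM dM fM rM)).prod) i : ℕ) = wv l i
  | [], _, i => rfl
  | k :: l, h, i => by
    rw [List.map_cons, List.prod_cons, Equiv.Perm.mul_apply, g5_pv k (h k List.mem_cons_self),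
      prod_wv l (fun x hx => h x (List.mem_cons_of_mem k hx)), wv, wv, List.foldr_cons]

theorem dig_lt {n k : ℕ} (h : k ∈ dig n) : k < 5 := by
  simp only [dig, List.mem_append, List.mem_replicate] at h
  omega

theorem step_M : ∀ k < 5, ∀ m < 64,
    rNF cM dM fM rM m * g5 cM dM fM rM k = rNF cM dM fM rM (stepG k m) := by
  intro k hk m hm
  refine Equiv.ext fun i => Fin.ext ?_
  have h := step_pv
  simp only [List.all_eq_true, List.mem_range, Nat.beq_eq] at h
  rw [rNF, rNF, Equiv.Perm.mul_apply, prod_wv _ fun x hx => dig_lt hx, prod_wv _ fun x hx => dig_lt hx,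
    g5_pv k hk]
  exact h k hk m hm i i.2

theorem conj_M : ∀ k < 5,
    fM * g5 cM dM fM rM k * fM⁻¹ = rNF cM dM fM rM (fP.getD k 0) ∧
    rM * g5 cM dM fM rM k * rM⁻¹ = rNF cM dM fM rM (rP.getD k 0) ∧
    rw' cM dM rM * g5 cM dM fM rM k * (rw' cM dM rM)⁻¹ = rNF cM dM fM rM (sP.getD k 0) := by
  decide +kernel

theorem prime_M : MRel cM dM fM (rM * (cM * cM)) ∧
    a1 dM (rM * (cM * cM)) = rNF cM dM fM rM 42 ∧
    fM * a1 dM (rM * (cM * cM)) * fM⁻¹ = rNF cM dM fM rM 37 := by
  refine ⟨?_, ?_, ?_⟩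
  · constructor <;> decide +kernel
  · decide +kernel
  · decide +kernel

theorem quot_M : (e1 cM dM * e2 cM dM) * (e1 cM dM * e2 cM dM) = rNF cM dM fM rM 12 ∧
    rw' cM dM rM * rw' cM dM rM = rNF cM dM fM rM 12 ∧
    rM * (e1 cM dM * e2 cM dM) * rM⁻¹ * (e1 cM dM * e2 cM dM)⁻¹ = 1 ∧
    fM * (e1 cM dM * e2 cM dM) * fM⁻¹ * (e1 cM dM * e2 cM dM) *
      (fM * (e1 cM dM * e2 cM dM) * fM⁻¹)⁻¹ * (e1 cM dM * e2 cM dM)⁻¹ = 1 ∧
    rw' cM dM rM * cM * (rw' cM dM rM)⁻¹ = cM⁻¹ ∧
    rM * rw' cM dM rM * rM⁻¹ = rw' cM dM rM ∧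
    ((rw' cM dM rM)⁻¹ * (a1 dM rM * (fM * a1 dM rM * fM⁻¹))⁻¹) ^ 2 = 1 := by
  refine ⟨?_, ?_, ?_, ?_, ?_, ?_, ?_⟩ <;> decide +kernel

theorem notin_M : ∀ n < 64, rNF cM dM fM rM n ≠ fM ∧ rNF cM dM fM rM n ≠ rM ∧
    rNF cM dM fM rM n ≠ e1 cM dM * e2 cM dM ∧ rNF cM dM fM rM n ≠ (e1 cM dM * e2 cM dM) * rM⁻¹ ∧
    rNF cM dM fM rM n ≠
      fM * (e1 cM dM * e2 cM dM) * fM⁻¹ * (e1 cM dM * e2 cM dM)⁻¹ := by
  decide +kernel

end Cfsg.Agent.HSRecog.HSide
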