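import Mathlib

/-!
A five-cycle out of the quotient facts in `S₅`.
-/

set_option autoImplicit false
set_option maxRecDepth 100000
set_option linter.all false
set_option synthInstance.maxSize 20000
set_option synthInstance.maxHeartbeats 400000

namespace Cfsg.Agent.HSRecog.HSide

open Equiv

/-- A five-cycle out of the quotient facts. -/
theorem five_cycle : ∀ a : Perm (Fin 5), a ^ 3 = 1 → a ≠ 1 → ∀ b : Perm (Fin 5), b * b = 1 → b ≠ 1 →
    b * a * b = a⁻¹ → ∀ w : Perm (Fin 5), w * w = 1 → w ≠ 1 → b * w = w * b → w ≠ b →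
      a * w * a⁻¹ * w = w * (a * w * a⁻¹) → a * w * a⁻¹ ≠ w →
      ∀ τ : Perm (Fin 5), τ * τ = 1 → τ ≠ 1 → τ * a = a * τ → τ * b = b * τ → (τ * (b * w)) ^ 3 = 1 →
        (a * (b * w * τ)) ^ 5 = 1 ∧ a * (b * w * τ) ≠ 1 := by
  decide +kernel

end Cfsg.Agent.HSRecog.HSide
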